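import Cfsg.Agent.LThreeMB.Fus
set_option linter.all false

-- merged: Cfsg.Agent.MFive.Cop
section

/-!
# Coprime action for elements of odd prime order `p` in `C_G(z)` (helper49)

The lemmas of `LThreeMB.Cop` for an odd prime `p`.
-/

set_option autoImplicit false

namespace Cfsg.Agent.MFive

open Cfsg.Agent.LThreeMB (conj_coset conj_Q)
open Cfsg.Agent.MonsterU.Ch
open Cfsg.Agent.MonsterU.Lam2 (L2)
open Cfsg.Spor (Co1)

variable {p : ℕ}

theorem eq_one_of_pow {H : Type*} [Group H] {g : H} (ho : Odd p) (hp : g ^ p = 1) (h4 : g ^ 4 = 1) : g = 1 := by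
  have h1 := orderOf_dvd_of_pow_eq_one hp
  have h2 := orderOf_dvd_of_pow_eq_one h4
  have h3 : Nat.Coprime p 4 := by
    have : Nat.Coprime p (2 ^ 2) := Nat.Coprime.pow_right 2 (Nat.coprime_two_right.2 ho)
    exact this
  have h5 := Nat.dvd_gcd h1 h2
  rw [h3] at h5
  exact orderOf_eq_one_iff.1 (Nat.dvd_one.1 h5)

section chart

variable {G : Type*} [Group G] {Q : Subgroup G} {z : G} {eta : G → L2}
  {pi : Subgroup.centralizer ({z} : Set G) →* Co1}

theorem coe_pow {x : Subgroup.centralizer ({z} : Set G)} (hx : x ^ p = 1) : (x : G) ^ p = 1 := by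
  have h1 := congrArg Subtype.val hx
  rw [SubmonoidClass.coe_pow] at h1
  exact h1

theorem pow_four (h : Chart Q z eta pi) {g : G} (hg : g ∈ Q) : g ^ 4 = 1 := by
  have h6 : g ^ 4 = (g * g) * (g * g) := by
    rw [show (4 : ℕ) = 2 + 2 from rfl, pow_add, pow_two]
  rcases h.large.sq _ hg with h5 | h5
  · rw [h6, h5, one_mul]
  · rw [h6, h5, h.large.z_sq]

theorem not_dvd (h : Chart Q z eta pi) (hp : p.Prime) (ho : Odd p) : ¬ p ∣ Nat.card ↥Q := by
  rw [h.card_Q]
  intro h3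
  have h4 := (Nat.prime_dvd_prime_iff_eq hp Nat.prime_two).1 (Nat.Prime.dvd_of_dvd_pow hp h3)
  rw [h4] at ho
  exact absurd ho (by decide)

/-- Elements of order `p` of `C(z)` with the same image in `Co1` are conjugate under `Q`. -/
theorem exists_conj_of_pi_eq (h : Chart Q z eta pi) (hp : p.Prime) (ho : Odd p)
    {x y : Subgroup.centralizer ({z} : Set G)} (hx : x ^ p = 1)
    (hy : y ^ p = 1) (hxy : pi x = pi y) : ∃ q ∈ Q, q * (x : G) * q⁻¹ = y := by
  have := h.fin
  have : Fact p.Prime := ⟨hp⟩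
  refine conj_coset (p := p) Q (not_dvd h hp ho) (coe_pow hx) (coe_pow hy) (conj_Q h x) ?_
  have h1 : pi x⁻¹ = pi y⁻¹ := by rw [map_inv, map_inv, hxy]
  have h2 := h.pi_eq.1 h1
  have h3 := Q.inv_mem h2
  have e : ((((x⁻¹ : Subgroup.centralizer ({z} : Set G)) : G))⁻¹ * ((y⁻¹ : Subgroup.centralizer ({z} : Set G)) : G))⁻¹ =
      (y : G) * (x : G)⁻¹ := by
    rw [InvMemClass.coe_inv, InvMemClass.coe_inv]; group
  rwa [e] at h3

/-- Elements of order `p` of `C(z)` with conjugate images in `Co1` are conjugate in `C(z)`. -/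
theorem exists_conj_of_conj (h : Chart Q z eta pi) (hp : p.Prime) (ho : Odd p)
    {x y : Subgroup.centralizer ({z} : Set G)} (hx : x ^ p = 1)
    (hy : y ^ p = 1) {s : Co1} (hs : s * pi x * s⁻¹ = pi y) :
    ∃ c : Subgroup.centralizer ({z} : Set G), c * x * c⁻¹ = y := by
  obtain ⟨c, hc⟩ := h.pi_surj s
  have h1 : pi (c * x * c⁻¹) = pi y := by rw [map_mul, map_mul, map_inv, hc, hs]
  have h2 : (c * x * c⁻¹) ^ p = 1 := by rw [conj_pow, hx, mul_one, mul_inv_cancel]
  obtain ⟨q, hq, hqx⟩ := exists_conj_of_pi_eq h hp ho h2 hy h1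
  have hqz : q ∈ Subgroup.centralizer ({z} : Set G) := Subgroup.mem_centralizer_singleton_iff.2 (h.large.comm_z q hq)
  refine ⟨⟨q, hqz⟩ * c, Subtype.ext ?_⟩
  rw [← hqx]
  simp only [Subgroup.coe_mul, InvMemClass.coe_inv, mul_inv_rev, mul_assoc]

/-- `C_{C(z)}(x)` maps onto `C_{Co1}(pi x)`. -/
theorem exists_lift (h : Chart Q z eta pi) (hp : p.Prime) (ho : Odd p)
    {x : Subgroup.centralizer ({z} : Set G)} (hx : x ^ p = 1) {s : Co1}
    (hs : s * pi x = pi x * s) : ∃ c : Subgroup.centralizer ({z} : Set G), c * x = x * c ∧ pi c = s := by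
  obtain ⟨c, hc⟩ := h.pi_surj s
  have h1 : pi (c * x * c⁻¹) = pi x := by
    rw [map_mul, map_mul, map_inv, hc, hs]; group
  have h2 : (c * x * c⁻¹) ^ p = 1 := by rw [conj_pow, hx, mul_one, mul_inv_cancel]
  obtain ⟨q, hq, hqx⟩ := exists_conj_of_pi_eq h hp ho h2 hx h1
  have hqz : q ∈ Subgroup.centralizer ({z} : Set G) := Subgroup.mem_centralizer_singleton_iff.2 (h.large.comm_z q hq)
  refine ⟨⟨q, hqz⟩ * c, ?_, ?_⟩
  · have h3 : ((⟨q, hqz⟩ * c) * x * (⟨q, hqz⟩ * c)⁻¹ : Subgroup.centralizer ({z} : Set G)) = x := by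
      apply Subtype.ext
      rw [← hqx]
      simp only [Subgroup.coe_mul, InvMemClass.coe_inv, mul_inv_rev, mul_assoc]
    exact mul_inv_eq_iff_eq_mul.1 h3
  · rw [map_mul, (h.pi_eq_one ⟨q, hqz⟩).2 hq, one_mul, hc]

/-- `q ∈ Q` commutes with `x` iff `pi x` fixes `eta q`. -/
theorem comm_iff_fix (h : Chart Q z eta pi) (ho : Odd p)
    {x : Subgroup.centralizer ({z} : Set G)} (hx : x ^ p = 1) {q : G}
    (hq : q ∈ Q) : (x : G) * q = q * x ↔ pi x • eta q = eta q := by
  rw [← h.eta_conj x q hq]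
  constructor
  · intro h1
    rw [h1, mul_inv_cancel_right]
  · intro h1
    rcases (h.eta_eq (conj_Q h x q hq) hq).1 h1 with h2 | h2
    · exact mul_inv_eq_iff_eq_mul.1 h2
    · exfalso
      have hxz : (x : G) * z = z * x := Subgroup.mem_centralizer_singleton_iff.1 x.2
      have h3 : (x : G) ^ p = 1 := coe_pow hx
      have hc : (x : G) * z * (x : G)⁻¹ = z := by rw [hxz, mul_inv_cancel_right]
      -- conjugation by `x ^ k`
      have key : ∀ k : ℕ, (x : G) ^ k * q * ((x : G) ^ k)⁻¹ = q * z ^ k := by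
        intro k
        induction k with
        | zero => simp
        | succ k ih =>
          have hzk : (x : G) * z ^ k * (x : G)⁻¹ = z ^ k := by
            have hcz : Commute (x : G) z := hxz
            rw [(hcz.pow_right k).eq, mul_inv_cancel_right]
          calc (x : G) ^ (k + 1) * q * ((x : G) ^ (k + 1))⁻¹
              = x * ((x : G) ^ k * q * ((x : G) ^ k)⁻¹) * (x : G)⁻¹ := by
                rw [pow_succ' (x : G) k]; group
            _ = (x * q * (x : G)⁻¹) * (x * z ^ k * (x : G)⁻¹) := by rw [ih]; group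
            _ = q * z ^ (k + 1) := by rw [h2, hzk, mul_assoc, ← pow_succ']
      have e := key p
      rw [h3, one_mul, inv_one, mul_one] at e
      obtain ⟨m, hm⟩ := ho
      have hz : z ^ p = z := by
        rw [hm, pow_succ, pow_mul, pow_two, h.large.z_sq, one_pow, one_mul]
      rw [hz] at e
      exact h.large.z_ne (mul_eq_left.1 e.symm)

/-- `pi x` has order `p` -/
theorem orderOf_pi (h : Chart Q z eta pi) (hp : p.Prime) (ho : Odd p)
    {x : Subgroup.centralizer ({z} : Set G)} (hx : orderOf x = p) : orderOf (pi x) = p := by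
  have : Fact p.Prime := ⟨hp⟩
  apply orderOf_eq_prime
  · rw [← map_pow, ← hx, pow_orderOf_eq_one, map_one]
  · intro h1
    have h2 : (x : G) ∈ Q := (h.pi_eq_one x).1 h1
    have h3 : (x : G) ^ p = 1 := coe_pow (by rw [← hx, pow_orderOf_eq_one])
    have h5 : x = 1 := Subtype.ext (eq_one_of_pow ho h3 (pow_four h h2))
    rw [h5, orderOf_one] at hx
    exact hp.one_lt.ne hx

end chart

end Cfsg.Agent.MFive

end

-- merged: Cfsg.Agent.MFive.Lin
section

/-!
# Fixed points of an isometry of odd order of a symplectic space over `F_2` (helper49)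

The lemmas of `LThreeMB.Lin` for an isometry `s` with `s^p = 1`, `p` odd.
-/

set_option autoImplicit false

namespace Cfsg.Agent.MFive.Lin

open Cfsg.Agent.LThreeMB.Lin (card_eq_sq fixs mem_fixs)

variable {V : Type*} [AddCommGroup V] [Module (ZMod 2) V]

/-- the trace `v + s v + ... + s^(p-1) v` -/
def tr (p : ℕ) (s : V →+ V) (v : V) : V := ∑ i ∈ Finset.range p, s^[i] v

omit [Module (ZMod 2) V] in
theorem s_tr {p : ℕ} (s : V →+ V) (h3 : ∀ v, s^[p] v = v) (v : V) : s (tr p s v) = tr p s v := by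
  have h1 : s (tr p s v) = ∑ i ∈ Finset.range p, s^[i + 1] v := by
    rw [tr, map_sum]
    exact Finset.sum_congr rfl fun i _ => (Function.iterate_succ_apply' s i v).symm
  have h2 := Finset.sum_range_succ' (fun i => s^[i] v) p
  rw [Finset.sum_range_succ, h3] at h2
  rw [h1, tr]
  exact (add_right_cancel h2).symm

omit [Module (ZMod 2) V] in
theorem iter_fix {s : V →+ V} {v : V} (hv : s v = v) (i : ℕ) : s^[i] v = v := by
  induction i with
  | zero => rfl
  | succ i ih => rw [Function.iterate_succ_apply', ih, hv]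

theorem iter_inv (b : LinearMap.BilinForm (ZMod 2) V) (s : V →+ V) (hinv : ∀ v w, b (s v) (s w) = b v w) (i : ℕ)
    (v w : V) : b (s^[i] v) (s^[i] w) = b v w := by
  induction i with
  | zero => rfl
  | succ i ih => rw [Function.iterate_succ_apply', Function.iterate_succ_apply', hinv, ih]

theorem b_tr {p : ℕ} (ho : Odd p) (b : LinearMap.BilinForm (ZMod 2) V) (s : V →+ V)
    (hinv : ∀ v w, b (s v) (s w) = b v w) {v : V} (hv : s v = v) (w : V) : b v (tr p s w) = b v w := by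
  have h1 : ∀ i, b v (s^[i] w) = b v w := fun i => by
    conv_lhs => rw [← iter_fix hv i]
    exact iter_inv b s hinv i v w
  rw [tr, map_sum, Finset.sum_congr rfl fun i _ => h1 i, Finset.sum_const, Finset.card_range, nsmul_eq_mul]
  have h2 : ((p : ℕ) : ZMod 2) = 1 := by
    obtain ⟨m, rfl⟩ := ho
    rw [Nat.cast_add, Nat.cast_mul]
    have : ((2 : ℕ) : ZMod 2) = 0 := rfl
    rw [this, zero_mul, zero_add, Nat.cast_one]
  rw [h2, one_mul]

/-- **Fixed points of an isometry of odd order and of a self-orthogonal invariant subspace.** -/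
theorem card_fix {p : ℕ} (ho : Odd p) [Finite V] (b : LinearMap.BilinForm (ZMod 2) V)
    (hb : ∀ v, (∀ w, b v w = 0) → v = 0)
    (hs : ∀ v w, b v w = b w v) (s : V →+ V) (h3 : ∀ v, s^[p] v = v) (hinv : ∀ v w, b (s v) (s w) = b v w)
    (W : AddSubgroup V) (hW : ∀ v, v ∈ W ↔ ∀ w ∈ W, b v w = 0) (hWs : ∀ w ∈ W, s w ∈ W) :
    Nat.card {v : V // s v = v} = Nat.card {v : V // v ∈ W ∧ s v = v} ^ 2 := by
  have hWi : ∀ i, ∀ w ∈ W, s^[i] w ∈ W := by
    intro i
    induction i with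
    | zero => exact fun w hw => hw
    | succ i ih => intro w hw; rw [Function.iterate_succ_apply']; exact hWs _ (ih w hw)
  have hWtr : ∀ w ∈ W, tr p s w ∈ W := fun w hw => W.sum_mem fun i _ => hWi i w hw
  let F := fixs s
  let bF : LinearMap.BilinForm (ZMod 2) ↥F := b.restrict F
  let WF : Submodule (ZMod 2) ↥F := (AddSubgroup.toZModSubmodule 2 W).comap F.subtype
  have key := card_eq_sq bF (fun v hv => ?_) (fun v w => hs v w) WF (fun v => ?_)
  · have e1 : Nat.card ↥F = Nat.card {v : V // s v = v} := rfl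
    have e2 : Nat.card ↥WF = Nat.card {v : V // v ∈ W ∧ s v = v} := by
      apply Nat.card_congr
      exact
        { toFun := fun v => ⟨v.1.1, v.2, v.1.2⟩
          invFun := fun v => ⟨⟨v.1, v.2.2⟩, v.2.1⟩
          left_inv := fun v => rfl
          right_inv := fun v => rfl }
    rw [← e1, key, e2]
  · apply Subtype.ext
    refine hb _ fun w => ?_
    have h1 := hv ⟨tr p s w, s_tr s h3 w⟩
    have h2 : b v (tr p s w) = 0 := h1
    rwa [b_tr ho b s hinv v.2] at h2
  · constructor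
    · intro hv w hw
      exact (hW v).1 hv w hw
    · intro hv
      refine (hW v).2 fun w hw => ?_
      have h1 := hv ⟨tr p s w, s_tr s h3 w⟩ (hWtr w hw)
      have h2 : b v (tr p s w) = 0 := h1
      rwa [b_tr ho b s hinv v.2] at h2

end Cfsg.Agent.MFive.Lin

end

-- merged: Cfsg.Agent.MFive.Pair
section

/-!
# Fixed ranks of an element of odd prime order centralising `z` and `y` (helper49)

The lemmas of `LThreeMB.Pair` for an odd prime `p`.
-/

set_option autoImplicit false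

namespace Cfsg.Agent.MFive

open Cfsg.Agent.LThreeMB (bL bL_apply sm sm_apply fr fr_conj)
open Cfsg.Agent.MonsterU
open Cfsg.Agent.MonsterU.Ch
open Cfsg.Agent.MonsterU.Lam2 (L2 bf bf_add_left bf_add_right bf_comm bf_zero_left bf_zero_right bf_nondeg bf_smul1)
open Cfsg.Agent.SporadicA
open Cfsg.Agent.MonsterU.CoFrameL2
open Cfsg.Agent.MonsterU.CoFrameIrr
open Cfsg.Agent.SporadicA.Co1Simple
open Cfsg.Spor (Co1)

variable {p : ℕ}

theorem sm_iter (s : Co1) (i : ℕ) (v : L2) : (sm s)^[i] v = s ^ i • v := by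
  induction i with
  | zero => rw [Function.iterate_zero, id, pow_zero, one_smul]
  | succ i ih => rw [Function.iterate_succ_apply', ih, sm_apply, ← mul_smul, ← pow_succ']

theorem sm_iter_eq {s : Co1} (hs : s ^ p = 1) (v : L2) : (sm s)^[p] v = v := by
  rw [sm_iter, hs, one_smul]

theorem fr_eq_sq (ho : Odd p) {s : Co1} (hs : s ^ p = 1) (hF : s ∈ F) :
    fr s = Nat.card {v : L2 // v ∈ W12 ∧ s • v = v} ^ 2 := by
  have h := Lin.card_fix ho bL (fun v hv => bf_nondeg hv) (fun v w => bf_comm v w) (sm s)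
    (sm_iter_eq hs)
    (fun v w => bf_smul1 s v w) W12
    (fun v => ⟨fun hv w hw => AmalGen.bf_W12 hv hw, fun hv => AmalGen.mem_W12_of_bf hv⟩)
    (fun w hw => F_mem_W12 hF hw)
  exact h

section chart

variable {G : Type*} [Group G] {Q : Subgroup G} {z : G} {eta : G → L2}
  {pi : Subgroup.centralizer ({z} : Set G) →* Co1}

theorem card_pre (h : Chart Q z eta pi) (ho : Odd p) {x : Subgroup.centralizer ({z} : Set G)} (hx : x ^ p = 1) (W : AddSubgroup L2) :
    Nat.card {q : G // (q ∈ Q ∧ eta q ∈ W) ∧ (x : G) * q = q * x} =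
      Nat.card {v : L2 // v ∈ W ∧ pi x • v = v} * 2 := by
  obtain ⟨s, hs⟩ := h.exists_sec
  have hxz : (x : G) * z = z * x := Subgroup.mem_centralizer_singleton_iff.1 x.2
  have h0 : ∀ (v : L2) (a : Fin 2), (s v : G) * z ^ (a : ℕ) ∈ Q := fun v a =>
    Q.mul_mem (s v).2 (Q.pow_mem h.large.z_mem _)
  have h1 : ∀ (v : L2) (a : Fin 2), eta ((s v : G) * z ^ (a : ℕ)) = v := by
    intro v a
    rw [h.eta_mul _ (s v).2 _ (Q.pow_mem h.large.z_mem _), hs]
    fin_cases a
    · show v + eta (z ^ 0) = v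
      rw [pow_zero, h.eta_one, add_zero]
    · show v + eta (z ^ 1) = v
      rw [pow_one, h.eta_z, add_zero]
  have hbij : Function.Bijective (fun p : {v : L2 // v ∈ W ∧ pi x • v = v} × Fin 2 =>
      (⟨(s p.1.1 : G) * z ^ (p.2 : ℕ), ⟨h0 _ _, by rw [h1]; exact p.1.2.1⟩,
        (comm_iff_fix h ho hx (h0 _ _)).2 (by rw [h1]; exact p.1.2.2)⟩ :
        {q : G // (q ∈ Q ∧ eta q ∈ W) ∧ (x : G) * q = q * x})) := by
    constructor
    · rintro ⟨v, a⟩ ⟨w, b⟩ hvw
      have e1 : (s v.1 : G) * z ^ (a : ℕ) = s w.1 * z ^ (b : ℕ) := congrArg Subtype.val hvw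
      have e2 := congrArg eta e1
      rw [h1, h1] at e2
      have e3 : v = w := Subtype.ext e2
      subst e3
      have e4 : z ^ (a : ℕ) = z ^ (b : ℕ) := mul_left_cancel e1
      have e5 : a = b := by
        fin_cases a <;> fin_cases b
        · rfl
        · exact absurd (by simpa using e4.symm) h.large.z_ne
        · exact absurd (by simpa using e4) h.large.z_ne
        · rfl
      rw [e5]
    · rintro ⟨q, ⟨hq, hqW⟩, hxq⟩
      have hfix := (comm_iff_fix h ho hx hq).1 hxq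
      rcases (h.eta_eq hq (s (eta q)).2).1 (hs (eta q)).symm with h2 | h2
      · exact ⟨(⟨eta q, hqW, hfix⟩, 0), Subtype.ext (by show (s (eta q) : G) * z ^ 0 = q; rw [pow_zero, mul_one]; exact h2.symm)⟩
      · exact ⟨(⟨eta q, hqW, hfix⟩, 1), Subtype.ext (by show (s (eta q) : G) * z ^ 1 = q; rw [pow_one]; exact h2.symm)⟩
  rw [← Nat.card_congr (Equiv.ofBijective _ hbij), Nat.card_prod]
  simp

/-- **The fixed ranks of `x` seen from `z` and from `y`.** -/
theorem fr_eq (h : Chart Q z eta pi) (ho : Odd p) {y τ : G} (hyQ : y ∈ Q) (hy : eta y = f0) (τz : τ * z * τ⁻¹ = y)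
    (τy : τ * y * τ⁻¹ = z * y) {x x' : Subgroup.centralizer ({z} : Set G)} (hx : x ^ p = 1)
    (hxy : (x : G) * y = y * x) (hx' : (x' : G) = τ⁻¹ * x * τ) : fr (pi x) = fr (pi x') := by
  have hfin := h.fin
  have hxz : (x : G) * z = z * x := Subgroup.mem_centralizer_singleton_iff.1 x.2
  have hx'3 : x' ^ p = 1 := by
    apply Subtype.ext
    have h3 : (x : G) ^ p = 1 := coe_pow hx
    show (x' : G) ^ p = 1
    rw [hx']
    have e : τ⁻¹ * (x : G) * τ = τ⁻¹ * x * τ⁻¹⁻¹ := by rw [inv_inv]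
    rw [e, conj_pow, h3, mul_one, mul_inv_cancel]
  have hzy : (z * y) * (x : G) = x * (z * y) := by rw [mul_assoc, ← hxy, ← mul_assoc, ← hxz, mul_assoc]
  have hx'y : (x' : G) * y = y * x' := by
    have e1 : τ⁻¹ * (z * y) * τ = y := AmalInf.τzy' h hyQ hy τz τy
    rw [hx']
    calc τ⁻¹ * x * τ * y = τ⁻¹ * x * τ * (τ⁻¹ * (z * y) * τ) := by rw [e1]
      _ = τ⁻¹ * (x * (z * y)) * τ := by group
      _ = τ⁻¹ * ((z * y) * x) * τ := by rw [hzy]
      _ = (τ⁻¹ * (z * y) * τ) * (τ⁻¹ * x * τ) := by group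
      _ = y * (τ⁻¹ * x * τ) := by rw [e1]
  have hF := AmalGen.pi_mem_F h hyQ hy x hxy
  have hF' := AmalGen.pi_mem_F h hyQ hy x' hx'y
  have h3 : ∀ x : Subgroup.centralizer ({z} : Set G), x ^ p = 1 → (pi x) ^ p = 1 := fun x hx => by
    rw [← map_pow, hx, map_one]
  rw [fr_eq_sq ho (h3 x hx) hF, fr_eq_sq ho (h3 x' hx'3) hF']
  congr 1
  have c1 := card_pre h ho hx W12
  have c2 := card_pre h ho hx'3 W12
  have key : Nat.card {q : G // (q ∈ Q ∧ eta q ∈ W12) ∧ (x : G) * q = q * x} =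
      Nat.card {q : G // (q ∈ Q ∧ eta q ∈ W12) ∧ (x' : G) * q = q * x'} := by
    -- conjugation by `τ` is a permutation of `E`
    have hE : ∀ q : G, (q ∈ Q ∧ eta q ∈ W12) ↔ q ∈ AmalGen.EE h := fun q => Iff.rfl
    have hEfin : Finite ↥(AmalGen.EE h) := Finite.of_injective
      (fun q : ↥(AmalGen.EE h) => (⟨q, q.2.1⟩ : ↥Q)) (fun a b hab => Subtype.ext (congrArg (fun q : ↥Q => (q : G)) hab))
    have hinj : Function.Injective (fun e : ↥(AmalGen.EE h) =>
        (⟨τ * e * τ⁻¹, AmalInf.Eτ h hyQ hy τz τy e e.2⟩ : ↥(AmalGen.EE h))) := by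
      intro a b hab
      have h1 : τ * (a : G) * τ⁻¹ = τ * b * τ⁻¹ := congrArg Subtype.val hab
      exact Subtype.ext (mul_left_cancel (mul_right_cancel h1))
    have hsurj := Finite.surjective_of_injective hinj
    have hback : ∀ e ∈ AmalGen.EE h, τ⁻¹ * e * τ ∈ AmalGen.EE h := by
      intro e he
      obtain ⟨f, hf⟩ := hsurj ⟨e, he⟩
      have h1 : τ * (f : G) * τ⁻¹ = e := congrArg Subtype.val hf
      have h2 : τ⁻¹ * e * τ = f := by rw [← h1]; group
      rw [h2]; exact f.2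
    have hfw : ∀ a : G, (x' : G) * a = a * x' → (x : G) * (τ * a * τ⁻¹) = τ * a * τ⁻¹ * x := by
      intro a h1
      rw [hx'] at h1
      calc x * (τ * a * τ⁻¹) = τ * (τ⁻¹ * x * τ * a) * τ⁻¹ := by group
        _ = τ * (a * (τ⁻¹ * x * τ)) * τ⁻¹ := by rw [h1]
        _ = τ * a * τ⁻¹ * x := by group
    apply Nat.card_congr
    exact
      { toFun := fun q => ⟨τ⁻¹ * q * τ, hback q q.2.1, by
          rw [hx']
          calc τ⁻¹ * x * τ * (τ⁻¹ * q * τ) = τ⁻¹ * (x * q) * τ := by group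
            _ = τ⁻¹ * (q * x) * τ := by rw [q.2.2]
            _ = τ⁻¹ * q * τ * (τ⁻¹ * x * τ) := by group⟩
        invFun := fun q => ⟨τ * q * τ⁻¹, AmalInf.Eτ h hyQ hy τz τy q q.2.1, hfw q q.2.2⟩
        left_inv := fun q => Subtype.ext (by show τ * (τ⁻¹ * q * τ) * τ⁻¹ = q; group)
        right_inv := fun q => Subtype.ext (by show τ⁻¹ * (τ * q * τ⁻¹) * τ = q; group) }
  rw [c1, c2] at key
  exact Nat.eq_of_mul_eq_mul_right (by norm_num) key

end chart

end Cfsg.Agent.MFive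

end

-- merged: Cfsg.Agent.MFive.Fus
section

/-!
# Fusion of `z` in `C_G(x)`, `x` of odd prime order (helper49)

The lemmas of `LThreeMB.Fus` for an odd prime `p`.
-/

set_option autoImplicit false

namespace Cfsg.Agent.MFive

open Cfsg.Agent.LThreeMB (fr fr_conj conj_of_type_four)
open Cfsg Cfsg.Agent.MonsterU
open Cfsg.Agent.MonsterU.Ch
open Cfsg.Agent.MonsterU.Lam2 (L2 IsType)
open Cfsg.Agent.MonsterU.CoFrameL2
open Cfsg.Spor (Co1)

variable {p : ℕ}

/-- The elements of order `p` with `n` fixed points on `Λ/2Λ` are conjugate. -/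
def ClassOf (p n : ℕ) : Prop :=
  ∀ s t : Co1, orderOf s = p → orderOf t = p → fr s = n → fr t = n → ∃ g : Co1, g * s * g⁻¹ = t

/-- The subgroups of order `p` with `n` fixed points on `Λ/2Λ` are conjugate. -/
def WClassOf (p n : ℕ) : Prop :=
  ∀ s t : Co1, orderOf s = p → orderOf t = p → fr s = n → fr t = n → ∃ (g : Co1) (i : ℕ), g * s * g⁻¹ = t ^ i

theorem ClassOf.weak {n : ℕ} (h : ClassOf p n) : WClassOf p n := fun s t h1 h2 h3 h4 => by
  obtain ⟨g, hg⟩ := h s t h1 h2 h3 h4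
  exact ⟨g, 1, by rw [hg, pow_one]⟩

variable {G : Type*} [Group G] {Q : Subgroup G} {z : G} {eta : G → L2}
  {pi : Subgroup.centralizer ({z} : Set G) →* Co1}

theorem conj_pow' {H : Type*} [Group H] (τ x : H) (n : ℕ) : (τ⁻¹ * x * τ) ^ n = τ⁻¹ * x ^ n * τ := by
  have e : τ⁻¹ * x * τ = τ⁻¹ * x * τ⁻¹⁻¹ := by rw [inv_inv]
  rw [e, conj_pow, inv_inv]

/-- **Fusion of `z` in the centralizer of an element of odd prime order.** -/
theorem exists_fusion (hp : p.Prime) (ho : Odd p) [Finite G] [IsSimpleGroup G] (h : Chart Q z eta pi)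
    {x : Subgroup.centralizer ({z} : Set G)} (hx : orderOf x = p) (hcl : ClassOf p (fr (pi x))) {y : G} (hyQ : y ∈ Q)
    (h4 : IsType 4 (eta y)) (hxy : (x : G) * y = y * x) : ∃ d : G, d * x = x * d ∧ d * z * d⁻¹ = y := by
  have hx3 : x ^ p = 1 := by rw [← hx, pow_orderOf_eq_one]
  have hne : y ≠ z := by
    rintro rfl
    rw [h.eta_z] at h4
    obtain ⟨s, hs⟩ := AmalSideOf.exists_smul_f0 h4
    rw [smul_zero] at hs
    exact f0_ne hs.symm
  obtain ⟨s, τ, τz, τy, hs⟩ := AmalSideOf.exists_frame h hyQ hne (conj_of_type_four h hyQ h4)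
  have h' := h.smul s
  have hxz : (x : G) * z = z * x := Subgroup.mem_centralizer_singleton_iff.1 x.2
  -- `x' = x^(τ⁻¹)`
  have hx'z : τ⁻¹ * (x : G) * τ ∈ Subgroup.centralizer ({z} : Set G) := by
    rw [Subgroup.mem_centralizer_singleton_iff]
    calc τ⁻¹ * x * τ * z = τ⁻¹ * (x * (τ * z * τ⁻¹)) * τ := by group
      _ = τ⁻¹ * ((τ * z * τ⁻¹) * x) * τ := by rw [τz, hxy]
      _ = z * (τ⁻¹ * x * τ) := by group
  let x' : Subgroup.centralizer ({z} : Set G) := ⟨τ⁻¹ * x * τ, hx'z⟩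
  have h1 := fr_eq h' ho hyQ hs τz τy (x := x) (x' := x') hx3 hxy rfl
  have h2 : ∀ c : Subgroup.centralizer ({z} : Set G), fr (((MulAut.conj s).toMonoidHom.comp pi) c) = fr (pi c) :=
    fun c => fr_conj s (pi c)
  rw [h2, h2] at h1
  have hx' : orderOf x' = p := by
    have : Fact p.Prime := ⟨hp⟩
    have hG : (x : G) ^ p = 1 := coe_pow hx3
    apply orderOf_eq_prime
    · apply Subtype.ext
      show (τ⁻¹ * (x : G) * τ) ^ p = 1
      rw [conj_pow', hG, mul_one, inv_mul_cancel]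
    · intro h3
      have h4 : τ⁻¹ * (x : G) * τ = 1 := congrArg Subtype.val h3
      have h5 : x = 1 := by
        apply Subtype.ext
        show (x : G) = 1
        calc (x : G) = τ * (τ⁻¹ * x * τ) * τ⁻¹ := by group
          _ = 1 := by rw [h4]; group
      rw [h5, orderOf_one] at hx
      exact hp.one_lt.ne hx
  obtain ⟨g, hg⟩ := hcl (pi x') (pi x) (orderOf_pi h hp ho hx') (orderOf_pi h hp ho hx) h1.symm rfl
  have hx'3 : x' ^ p = 1 := by rw [← hx', pow_orderOf_eq_one]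
  obtain ⟨c, hc⟩ := exists_conj_of_conj h hp ho hx'3 hx3 hg
  have hc' : (c : G) * (τ⁻¹ * x * τ) * (c : G)⁻¹ = x := congrArg Subtype.val hc
  have hcz : (c : G) * z = z * c := Subgroup.mem_centralizer_singleton_iff.1 c.2
  refine ⟨τ * (c : G)⁻¹, ?_, ?_⟩
  · calc τ * (c : G)⁻¹ * x = τ * (c : G)⁻¹ * (c * (τ⁻¹ * x * τ) * (c : G)⁻¹) := by rw [hc']
      _ = x * (τ * (c : G)⁻¹) := by group
  · calc τ * (c : G)⁻¹ * z * (τ * (c : G)⁻¹)⁻¹ = τ * ((c : G)⁻¹ * (z * c)) * τ⁻¹ := by group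
      _ = τ * z * τ⁻¹ := by rw [← hcz]; group
      _ = y := τz

end Cfsg.Agent.MFive

end
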