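import Cfsg.Agent.LThreeMB.Quo
import Cfsg.Agent.MFive.Fus
import Cfsg.Agent.LThreeMB.Rho
set_option linter.all false

-- merged: Cfsg.Agent.MFive.Quo
section

/-!
# `C_G(x) / ⟨x⟩`, `x` of odd prime order (helper49)

The lemmas of `LThreeMB.Quo` for an odd prime `p`.
-/

set_option autoImplicit false

namespace Cfsg.Agent.MFive

open Cfsg.Agent.LThreeMB (fr fr_conj bL bL_apply sm sm_apply Zx XX mk exists_mk mk_eq_one mk_mul mk_one mk_inv mk_congr
  mk_eq_mk conj_comm exists_fac Faith tt PP mem_PP PB mem_PB)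
open Cfsg Cfsg.Agent.MonsterU
open Cfsg.Agent.MonsterU.Ch
open Cfsg.Agent.MonsterU.Lam2 (L2 bf_nondeg)
open Cfsg.Agent.Co2Type.Quad
open Cfsg.Spor (Co1)
open Subgroup (centralizer zpowers mem_centralizer_singleton_iff)

variable {p : ℕ} {G : Type*} [Group G] {Q : Subgroup G} {z : G} {eta : G → L2}
  {pi : Subgroup.centralizer ({z} : Set G) →* Co1}

theorem eq_one_of_mem (h : Chart Q z eta pi) (ho : Odd p) {x : Subgroup.centralizer ({z} : Set G)} (hx : x ^ p = 1)
    {g : G} (hg : g ∈ Q) (hgx : ∃ i : ℤ, (x : G) ^ i = g) : g = 1 := by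
  obtain ⟨i, rfl⟩ := hgx
  refine eq_one_of_pow ho ?_ (pow_four h hg)
  rw [← zpow_natCast, ← zpow_mul, mul_comm, zpow_mul, zpow_natCast, coe_pow hx, one_zpow]

/-- an element commuting with `z` modulo `⟨x⟩` commutes with `z` -/
theorem comm_z_of_comm (h : Chart Q z eta pi) (ho : Odd p) {x : Subgroup.centralizer ({z} : Set G)} (hx : x ^ p = 1) {g : G}
    (hg : g * (x : G) = x * g) (hgt : mk (x : G) hg * tt x = tt x * mk (x : G) hg) : g * z = z * g := by
  have hxz : z * (x : G) = x * z := (mem_centralizer_singleton_iff.1 x.2).symm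
  have h1 : (g * z) * (x : G) = x * (g * z) := by rw [mul_assoc, hxz, ← mul_assoc, hg, mul_assoc]
  have h2 : (z * g) * (x : G) = x * (z * g) := by rw [mul_assoc, hg, ← mul_assoc, hxz, mul_assoc]
  have h3 : mk (x : G) h2 = mk (x : G) h1 := by
    rw [← mk_mul hg hxz, ← mk_mul hxz hg]
    exact hgt.symm
  obtain ⟨i, hi⟩ := (mk_eq_mk h2 h1).1 h3
  -- `z^g = z x^i` is an involution
  set w := (x : G) ^ i with hw
  have hwx : w * (x : G) = x * w := by rw [hw, ← zpow_add_one, ← zpow_one_add, add_comm]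
  have hwz : w * z = z * w := by
    have : Commute (x : G) z := hxz.symm
    exact (this.zpow_left i)
  have hwg : w * g = g * w := by
    have : Commute (x : G) g := hg.symm
    exact (this.zpow_left i)
  have h4 : g * z * g⁻¹ = z * w := by
    rw [← hi, mul_assoc z g w, ← hwg]; group
  have h5 : w * w = 1 := by
    have e1 : (g * z * g⁻¹) * (g * z * g⁻¹) = 1 := by
      calc (g * z * g⁻¹) * (g * z * g⁻¹) = g * (z * z) * g⁻¹ := by group
        _ = 1 := by rw [h.large.z_sq]; group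
    rw [h4] at e1
    calc w * w = (z * z) * (w * w) := by rw [h.large.z_sq, one_mul]
      _ = z * (z * w) * w := by group
      _ = z * (w * z) * w := by rw [hwz]
      _ = (z * w) * (z * w) := by group
      _ = 1 := e1
  have h6 : w ^ p = 1 := by
    rw [hw, ← zpow_natCast, ← zpow_mul, mul_comm, zpow_mul, zpow_natCast, coe_pow hx, one_zpow]
  have h7 : w = 1 := by
    refine eq_one_of_pow ho h6 ?_
    rw [show (4 : ℕ) = 2 * 2 from rfl, pow_mul, pow_two w, h5, one_pow]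
  rw [h7, mul_one] at hi
  exact hi.symm

/-- `C_Q(x)` maps onto the fixed points of `pi x`. -/
theorem exists_fix (h : Chart Q z eta pi) (ho : Odd p) {x : Subgroup.centralizer ({z} : Set G)} (hx : x ^ p = 1) {v : L2}
    (hv : pi x • v = v) : ∃ w ∈ Q, w * (x : G) = x * w ∧ eta w = v := by
  obtain ⟨w, hw, rfl⟩ := h.eta_surj v
  exact ⟨w, hw, ((comm_iff_fix h ho hx hw).2 hv).symm, rfl⟩

/-- the centre of `C_Q(x)` -/
theorem cent_PP (h : Chart Q z eta pi) (ho : Odd p) {x : Subgroup.centralizer ({z} : Set G)} (hx : x ^ p = 1) {g : G} (hp : g ∈ Q)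
    (hpx : g * (x : G) = x * g) (hc : ∀ w ∈ Q, w * (x : G) = x * w → g * w = w * g) : g = 1 ∨ g = z := by
  rw [← h.eta_zero g hp]
  refine bf_nondeg fun v => ?_
  have hs : pi x ^ p = 1 := by rw [← map_pow, hx, map_one]
  have h3 : ∀ v : L2, (sm (pi x))^[p] v = v := sm_iter_eq hs
  have hfix : pi x • eta g = eta g := (comm_iff_fix h ho hx hp).1 hpx.symm
  have h1 := Lin.b_tr ho bL (sm (pi x)) (fun v w => Lam2.bf_smul1 (pi x) v w) (v := eta g) hfix v
  rw [bL_apply, bL_apply] at h1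
  rw [← h1]
  obtain ⟨w, hw, hwx, hwv⟩ := exists_fix h ho hx (v := Lin.tr p (sm (pi x)) v) (Lin.s_tr (sm (pi x)) h3 v)
  rw [← hwv]
  exact (h.comm_iff hp hw).1 (hc w hw hwx)

/-- **`C_Q(x)` is large in `C(x) / ⟨x⟩`.** -/
theorem large (h : Chart Q z eta pi) (ho : Odd p) {x : Subgroup.centralizer ({z} : Set G)} (hx : x ^ p = 1) (hf : Faith (pi x)) :
    Large (PB Q (x : G)) (tt x) where
  z_mem := mem_PB.2 ⟨z, _, h.large.z_mem, rfl⟩
  z_ne := by
    intro h1
    obtain hi := (mk_eq_one _).1 h1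
    exact h.large.z_ne (eq_one_of_mem h ho hx h.large.z_mem hi)
  z_sq := by
    have hxz : z * (x : G) = x * z := (mem_centralizer_singleton_iff.1 x.2).symm
    have : tt x * tt x = mk (x : G) (g := z * z) (by rw [h.large.z_sq, one_mul, mul_one]) := rfl
    rw [this, mk_congr _ (by rw [one_mul, mul_one]) h.large.z_sq]
    rfl
  comm_z := by
    intro u hu
    obtain ⟨g, hg, hgQ, rfl⟩ := mem_PB.1 hu
    have hxz : z * (x : G) = x * z := (mem_centralizer_singleton_iff.1 x.2).symm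
    rw [tt, mk_mul hg hxz (by rw [mul_assoc, hxz, ← mul_assoc, hg, mul_assoc]),
      mk_mul hxz hg (by rw [mul_assoc, hg, ← mul_assoc, hxz, mul_assoc])]
    exact mk_congr _ _ (h.large.comm_z g hgQ)
  conj_mem := by
    intro u hut v hv
    obtain ⟨k, hk, rfl⟩ := exists_mk u
    obtain ⟨g, hg, hgQ, rfl⟩ := mem_PB.1 hv
    have hkz := comm_z_of_comm h ho hx hk hut
    exact mem_PB.2 ⟨k * g * k⁻¹, conj_comm hk hg, h.large.conj_mem k hkz g hgQ, rfl⟩
  sq := by
    intro u hu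
    obtain ⟨g, hg, hgQ, rfl⟩ := mem_PB.1 hu
    have h0 : (g * g) * (x : G) = x * (g * g) := by rw [mul_assoc, hg, ← mul_assoc, hg, mul_assoc]
    rw [mk_mul hg hg h0]
    rcases h.large.sq g hgQ with h1 | h1
    · left; rw [mk_congr h0 (by rw [one_mul, mul_one]) h1]; rfl
    · right; exact mk_congr _ _ h1
  comm := by
    intro u hu v hv
    obtain ⟨g, hg, hgQ, rfl⟩ := mem_PB.1 hu
    obtain ⟨k, hk, hkQ, rfl⟩ := mem_PB.1 hv
    have h0 : (g * k) * (x : G) = x * (g * k) := by rw [mul_assoc, hk, ← mul_assoc, hg, mul_assoc]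
    have h1 : (k * g) * (x : G) = x * (k * g) := by rw [mul_assoc, hg, ← mul_assoc, hk, mul_assoc]
    have hxz : z * (x : G) = x * z := (mem_centralizer_singleton_iff.1 x.2).symm
    rw [mk_mul hg hk h0, mk_mul hk hg h1]
    rcases h.large.comm g hgQ k hkQ with h2 | h2
    · left; exact mk_congr _ _ h2
    · right; rw [tt, mk_mul h1 hxz (by rw [mul_assoc, hxz, ← mul_assoc, h1, mul_assoc])]
      exact mk_congr _ _ h2
  cent := by
    intro u hu hc
    obtain ⟨g, hg, hgQ, rfl⟩ := mem_PB.1 hu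
    have key : ∀ w ∈ Q, w * (x : G) = x * w → g * w = w * g := by
      intro w hw hwx
      have h0 : (g * w) * (x : G) = x * (g * w) := by rw [mul_assoc, hwx, ← mul_assoc, hg, mul_assoc]
      have h1 : (w * g) * (x : G) = x * (w * g) := by rw [mul_assoc, hg, ← mul_assoc, hwx, mul_assoc]
      have h2 := hc _ (mem_PB.2 ⟨w, hwx, hw, rfl⟩)
      rw [mk_mul hg hwx h0, mk_mul hwx hg h1] at h2
      obtain ⟨i, hi⟩ := (mk_eq_mk h0 h1).1 h2
      have h3 : (x : G) ^ i ∈ Q := by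
        have : (x : G) ^ i = (g * w)⁻¹ * (w * g) := by rw [← hi]; group
        rw [this]
        exact Q.mul_mem (Q.inv_mem (Q.mul_mem hgQ hw)) (Q.mul_mem hw hgQ)
      rw [eq_one_of_mem h ho hx h3 ⟨i, rfl⟩, mul_one] at hi
      exact hi
    rcases cent_PP h ho hx hgQ hg key with h1 | h1
    · left; rw [mk_congr hg (by rw [one_mul, mul_one]) h1]; rfl
    · right; exact mk_congr _ _ h1
  self := by
    intro u hut hc
    obtain ⟨g, hg, rfl⟩ := exists_mk u
    have hgz := comm_z_of_comm h ho hx hg hut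
    have key : ∀ w ∈ Q, w * (x : G) = x * w → g * w * g⁻¹ = w := by
      intro w hw hwx
      have h0 : (g * w) * (x : G) = x * (g * w) := by rw [mul_assoc, hwx, ← mul_assoc, hg, mul_assoc]
      have h1 : (w * g) * (x : G) = x * (w * g) := by rw [mul_assoc, hg, ← mul_assoc, hwx, mul_assoc]
      have h2 := hc _ (mem_PB.2 ⟨w, hwx, hw, rfl⟩)
      rw [mk_mul hg hwx h0, mk_mul hwx hg h1] at h2
      obtain ⟨i, hi⟩ := (mk_eq_mk h0 h1).1 h2
      have hcg : Commute ((x : G) ^ i) g := (show Commute (x : G) g from hg.symm).zpow_left i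
      have hcw : Commute ((x : G) ^ i) w := (show Commute (x : G) w from hwx.symm).zpow_left i
      have h4 : g * w * g⁻¹ = w * ((x : G) ^ i)⁻¹ := by
        calc g * w * g⁻¹ = (g * w * (x : G) ^ i) * ((x : G) ^ i)⁻¹ * g⁻¹ := by group
          _ = w * g * (((x : G) ^ i)⁻¹ * g⁻¹) := by rw [hi]; group
          _ = w * g * (g⁻¹ * ((x : G) ^ i)⁻¹) := by rw [hcg.inv_inv.eq]
          _ = w * ((x : G) ^ i)⁻¹ := by group
      have h5 : (x : G) ^ (-i) ∈ Q := by
        have : (x : G) ^ (-i) = w⁻¹ * (g * w * g⁻¹) := by rw [h4]; group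
        rw [this]
        exact Q.mul_mem (Q.inv_mem hw) (h.large.conj_mem g hgz w hw)
      have h6 := eq_one_of_mem h ho hx h5 ⟨-i, rfl⟩
      rw [zpow_neg] at h6
      rw [h4, h6, mul_one]
    have hgc : g ∈ centralizer ({z} : Set G) := mem_centralizer_singleton_iff.2 hgz
    have h1 : pi ⟨g, hgc⟩ * pi x = pi x * pi ⟨g, hgc⟩ := by
      rw [← map_mul, ← map_mul]
      congr 1
      exact Subtype.ext hg
    obtain ⟨i, hi⟩ := hf (pi ⟨g, hgc⟩) h1 (fun v hv => by
      obtain ⟨w, hw, hwx, rfl⟩ := exists_fix h ho hx hv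
      rw [← h.eta_conj ⟨g, hgc⟩ w hw]
      congr 1
      exact key w hw hwx)
    have hi : pi x ^ i = pi ⟨g, hgc⟩ := hi
    rw [← map_zpow] at hi
    have h2 := h.pi_eq.1 hi
    have h3 : ((x : G) ^ i)⁻¹ * g ∈ Q := h2
    have hcx : Commute ((x : G) ^ i)⁻¹ (x : G) := ((Commute.refl (x : G)).zpow_left i).inv_left
    have hcg : Commute ((x : G) ^ i) g := (show Commute (x : G) g from hg.symm).zpow_left i
    have h4 : (((x : G) ^ i)⁻¹ * g) * (x : G) = x * (((x : G) ^ i)⁻¹ * g) := by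
      rw [mul_assoc, hg, ← mul_assoc, hcx.eq, mul_assoc]
    refine mem_PB.2 ⟨_, h4, h3, ?_⟩
    rw [mk_eq_mk]
    exact ⟨i, by rw [mul_assoc, ← hcg.eq, ← mul_assoc, inv_mul_cancel, one_mul]⟩

end Cfsg.Agent.MFive

end

-- merged: Cfsg.Agent.MFive.Rho
section

/-!
# `C_X(z) / C_Q(x) = C_{Co1}(pi x) / ⟨pi x⟩`, `X = C_G(x) / ⟨x⟩`, `x` of odd prime order (helper49)
-/

set_option autoImplicit false

namespace Cfsg.Agent.MFive

open Cfsg.Agent.LThreeMB (fr fr_conj Zx Zx_normal XX mk exists_mk mk_eq_one mk_mul mk_one mk_inv mk_congr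
  mk_eq_mk conj_comm exists_fac Faith tt PP mem_PP PB mem_PB CC CC_z CC_x al al_coe al_eq_one be be_coe be_eq_one)
open Cfsg Cfsg.Agent.MonsterU
open Cfsg.Agent.MonsterU.Ch
open Cfsg.Agent.MonsterU.Lam2 (L2)
open Cfsg.Agent.Co2Type.Quad
open Cfsg.Spor (Co1)
open Subgroup (centralizer zpowers mem_centralizer_singleton_iff)

variable {p : ℕ} {G : Type*} [Group G] {Q : Subgroup G} {z : G} {eta : G → L2}
  {pi : Subgroup.centralizer ({z} : Set G) →* Co1}

theorem al_surj (h : Chart Q z eta pi) (ho : Odd p) {x : Subgroup.centralizer ({z} : Set G)} (hx : x ^ p = 1) :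
    Function.Surjective (al x) := by
  rintro ⟨u, hu⟩
  obtain ⟨g, hg, rfl⟩ := exists_mk u
  have hgz := comm_z_of_comm h ho hx hg (mem_centralizer_singleton_iff.1 hu)
  exact ⟨⟨g, Subgroup.mem_inf.2 ⟨mem_centralizer_singleton_iff.2 hgz, mem_centralizer_singleton_iff.2 hg⟩⟩, rfl⟩

theorem be_surj (h : Chart Q z eta pi) (hp : p.Prime) (ho : Odd p) {x : Subgroup.centralizer ({z} : Set G)} (hx : x ^ p = 1) :
    Function.Surjective (be pi x) := by
  rintro ⟨s, hs⟩
  obtain ⟨c, hcx, hc⟩ := exists_lift h hp ho hx (mem_centralizer_singleton_iff.1 hs)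
  refine ⟨⟨c, Subgroup.mem_inf.2 ⟨c.2, mem_centralizer_singleton_iff.2 (congrArg Subtype.val hcx)⟩⟩, Subtype.ext ?_⟩
  rw [be_coe]
  exact hc

/-- **`C_X(t) → C_{Co1}(pi x) / ⟨pi x⟩`, with kernel the image of `C_Q(x)`.** -/
theorem exists_rho (h : Chart Q z eta pi) (hp : p.Prime) (ho : Odd p) {x : Subgroup.centralizer ({z} : Set G)} (hx : x ^ p = 1) :
    ∃ ρ : ↥(centralizer ({tt x} : Set (XX (x : G)))) →* XX (pi x), Function.Surjective ρ ∧
      (∀ g, ρ (al x g) = (QuotientGroup.mk (be pi x g) : XX (pi x))) ∧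
      ρ.ker = (PB Q (x : G)).subgroupOf (centralizer ({tt x} : Set (XX (x : G)))) := by
  obtain ⟨ρ, hρ⟩ := exists_fac (al x) (al_surj h ho hx) ((QuotientGroup.mk' (Zx (pi x))).comp (be pi x)) (by
    intro g hg
    obtain ⟨i, hi⟩ := al_eq_one.1 hg
    show (QuotientGroup.mk (be pi x g) : XX (pi x)) = 1
    rw [QuotientGroup.eq_one_iff, Zx, Subgroup.mem_zpowers_iff]
    refine ⟨i, Subtype.ext ?_⟩
    rw [be_coe]
    show pi x ^ i = _
    rw [← map_zpow]
    congr 1
    exact Subtype.ext hi)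
  have hρ' : ∀ g, ρ (al x g) = (QuotientGroup.mk (be pi x g) : XX (pi x)) := hρ
  refine ⟨ρ, ?_, hρ', ?_⟩
  · intro u
    obtain ⟨s, rfl⟩ := QuotientGroup.mk_surjective u
    obtain ⟨g, rfl⟩ := be_surj h hp ho hx s
    exact ⟨al x g, hρ' g⟩
  · ext u
    obtain ⟨g, rfl⟩ := al_surj h ho hx u
    rw [MonoidHom.mem_ker, hρ', QuotientGroup.eq_one_iff, Zx, Subgroup.mem_zpowers_iff, Subgroup.mem_subgroupOf, al_coe,
      mem_PB]
    have hxx : (x : G) * x = x * x := rfl
    constructor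
    · rintro ⟨i, hi⟩
      have h1 : pi x ^ i = pi ⟨g, (Subgroup.mem_inf.1 g.2).1⟩ := by
        rw [← be_coe, ← hi]
        rfl
      rw [← map_zpow] at h1
      have h2 : ((x : G) ^ i)⁻¹ * g ∈ Q := h.pi_eq.1 h1
      have hcg : Commute ((x : G) ^ i) (g : G) := (show Commute (x : G) (g : G) from (CC_x g).symm).zpow_left i
      have hcx : Commute ((x : G) ^ i)⁻¹ (x : G) := ((Commute.refl (x : G)).zpow_left i).inv_left
      have h4 : (((x : G) ^ i)⁻¹ * g) * (x : G) = x * (((x : G) ^ i)⁻¹ * g) := by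
        rw [mul_assoc, CC_x g, ← mul_assoc, hcx.eq, mul_assoc]
      refine ⟨_, h4, h2, ?_⟩
      rw [mk_eq_mk]
      exact ⟨i, by rw [mul_assoc, ← hcg.eq, ← mul_assoc, inv_mul_cancel, one_mul]⟩
    · rintro ⟨q, hq, hqQ, hqg⟩
      obtain ⟨i, hi⟩ := (mk_eq_mk hq (CC_x g)).1 hqg
      refine ⟨i, Subtype.ext ?_⟩
      rw [be_coe]
      show pi x ^ i = _
      rw [← map_zpow, h.pi_eq]
      show ((x ^ i : Subgroup.centralizer ({z} : Set G)) : G)⁻¹ * (g : G) ∈ Q
      have hcq : Commute ((x : G) ^ i) q := (show Commute (x : G) q from hq.symm).zpow_left i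
      have : ((x ^ i : Subgroup.centralizer ({z} : Set G)) : G)⁻¹ * (g : G) = q := by
        rw [← hi, ← hcq.eq]
        show ((x : G) ^ i)⁻¹ * ((x : G) ^ i * q) = q
        group
      rw [this]
      exact hqQ

/-- the order of `C_Q(x)` -/
theorem card_PB (h : Chart Q z eta pi) (ho : Odd p) {x : Subgroup.centralizer ({z} : Set G)} (hx : x ^ p = 1) :
    Nat.card ↥(PB Q (x : G)) = fr (pi x) * 2 := by
  have h1 := card_pre h ho hx ⊤
  have h2 : Nat.card {v : L2 // v ∈ (⊤ : AddSubgroup L2) ∧ pi x • v = v} = fr (pi x) := by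
    apply Nat.card_congr
    exact
      { toFun := fun v => ⟨v.1, v.2.2⟩
        invFun := fun v => ⟨v.1, trivial, v.2⟩
        left_inv := fun v => rfl
        right_inv := fun v => rfl }
  rw [h2] at h1
  rw [← h1]
  symm
  apply Nat.card_congr
  refine Equiv.ofBijective (fun q => (⟨mk (x : G) q.2.2.symm, mem_PB.2 ⟨q, q.2.2.symm, q.2.1.1, rfl⟩⟩ :
    ↥(PB Q (x : G)))) ⟨?_, ?_⟩
  · intro a b hab
    have h3 : mk (x : G) a.2.2.symm = mk (x : G) b.2.2.symm := congrArg Subtype.val hab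
    obtain ⟨i, hi⟩ := (mk_eq_mk _ _).1 h3
    have h4 : (x : G) ^ i ∈ Q := by
      have : (x : G) ^ i = (a : G)⁻¹ * b := by rw [← hi]; group
      rw [this]
      exact Q.mul_mem (Q.inv_mem a.2.1.1) b.2.1.1
    rw [eq_one_of_mem h ho hx h4 ⟨i, rfl⟩, mul_one] at hi
    exact Subtype.ext hi
  · rintro ⟨u, hu⟩
    obtain ⟨g, hg, hgQ, rfl⟩ := mem_PB.1 hu
    exact ⟨⟨g, ⟨hgQ, trivial⟩, hg.symm⟩, rfl⟩

end Cfsg.Agent.MFive

end
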