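import Cfsg.Agent.LThreeMB.Six
import Cfsg.Agent.MFive.Near
import Cfsg.Agent.MFive.Rho
set_option linter.all false

/-!
# `C_G(x)` for `x` of odd prime order `p ≥ 5` of fixed rank 0 (helper49)

* `TrNe` : the trace inequality; `isolated` : then `z` is isolated in `C_G(x)` for `x` of fixed rank 0;
* `exists_odd` : `C_G(x) = N C(z) ∩ C(x)` with `N` normal of odd order;
* `comps_zero` : `Comps p C_G(x)` if `C_{Co1}(pi x) / ⟨pi x⟩` is almost simple on the list.
* `conj_pair` : the elements of fixed rank `n` are conjugate in `G` to powers of an element `x₀` of fixed rank 0, if `x₀` and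
  `z` commute with a conjugate `u ≠ z` of `z`.
-/

set_option autoImplicit false

namespace Cfsg.Agent.MFive

open Cfsg Cfsg.Agent.MonsterU Cfsg.Agent.LThree
open Cfsg.Agent.LThreeMB (fr fr_conj Zx XX mk zD toCC toCC_surj toCC_inj toXX toXX_ker exists_XX_equiv be)
open Cfsg.Agent.MonsterU.Ch
open Cfsg.Agent.MonsterU.Lam2 (L2)
open Cfsg.Spor (Co1)
open Subgroup (centralizer zpowers mem_centralizer_singleton_iff)

universe u v

variable {p : ℕ} {G : Type u} [Group G] {Q : Subgroup G} {z : G} {eta : G → L2}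
  {pi : Subgroup.centralizer ({z} : Set G) →* Co1}

theorem toXX_surj (h : Chart Q z eta pi) (hp : p.Prime) (ho : Odd p) {x : Subgroup.centralizer ({z} : Set G)}
    (hx : x ^ p = 1) : Function.Surjective (toXX pi x) :=
  ((QuotientGroup.mk'_surjective (Zx (pi x))).comp (be_surj h hp ho hx)).comp (toCC_surj x)

/-- The trace inequality: `x z` and `x y` are not conjugate. -/
def TrNe (p : ℕ) {G : Type u} [Group G] (z : G) (pi : Subgroup.centralizer ({z} : Set G) →* Co1) : Prop :=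
  ∀ (x x₁ : Subgroup.centralizer ({z} : Set G)) (y g : G), orderOf x = p → orderOf x₁ = p → fr (pi x) = 1 →
    fr (pi x₁) = 1 → y * z = z * y → y * y = 1 → y ≠ 1 → y ≠ z → (x : G) * y = y * x →
    g * ((x₁ : G) * z) * g⁻¹ ≠ x * y

theorem isolated (h : Chart Q z eta pi) (ht : TrNe p z pi) {x : Subgroup.centralizer ({z} : Set G)} (hx : orderOf x = p)
    (hfr : fr (pi x) = 1) (d : G) (hd : d * (x : G) = x * d) (hc : (d * z * d⁻¹) * z = z * (d * z * d⁻¹)) :
    d * z * d⁻¹ = z := by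
  by_contra hne
  have hxz : (x : G) * z = z * x := mem_centralizer_singleton_iff.1 x.2
  have hz2 : z * z = 1 := h.large.z_sq
  refine ht x x (d * z * d⁻¹) d hx hx hfr hfr hc ?_ ?_ hne ?_ ?_
  · calc d * z * d⁻¹ * (d * z * d⁻¹) = d * (z * z) * d⁻¹ := by group
      _ = 1 := by rw [hz2]; group
  · intro h1
    apply h.large.z_ne
    calc z = d⁻¹ * (d * z * d⁻¹) * d := by group
      _ = 1 := by rw [h1]; group
  · have hd' : d⁻¹ * (x : G) = x * d⁻¹ := by rw [inv_mul_eq_iff_eq_mul, ← mul_assoc, hd]; group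
    calc (x : G) * (d * z * d⁻¹) = (x * d) * z * d⁻¹ := by group
      _ = d * (x * z) * d⁻¹ := by rw [← hd]; group
      _ = d * z * (x * d⁻¹) := by rw [hxz]; group
      _ = d * z * d⁻¹ * x := by rw [← hd']; group
  · calc d * ((x : G) * z) * d⁻¹ = (d * x) * z * d⁻¹ := by group
      _ = x * (d * z * d⁻¹) := by rw [hd]; group

theorem orderOf_zD (h : Chart Q z eta pi) (x : Subgroup.centralizer ({z} : Set G)) : orderOf (zD x) = 2 := by
  rw [← Subgroup.orderOf_coe]
  exact LargeExtra.Base.orderOf_z h.large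

/-- **`C_G(x) = N (C(z) ∩ C(x))`**, `N` normal of odd order. -/
theorem exists_odd [Finite G] (h : Chart Q z eta pi) {x : Subgroup.centralizer ({z} : Set G)}
    (hiso : ∀ d : G, d * (x : G) = x * d → (d * z * d⁻¹) * z = z * (d * z * d⁻¹) → d * z * d⁻¹ = z) :
    ∃ N : Subgroup ↥(centralizer ({(x : G)} : Set G)), N.Normal ∧ Odd (Nat.card ↥N) ∧
      N ⊔ centralizer ({zD x} : Set ↥(centralizer ({(x : G)} : Set G))) = ⊤ :=
  LThreeMB.ZStar.exists_core (orderOf_zD h x) (fun d hd =>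
    Subtype.ext (hiso d (mem_centralizer_singleton_iff.1 d.2) (congrArg Subtype.val hd)))

/-- **Fixed rank 0.** -/
theorem comps_zero (FT : ∀ (K : Type u) [Group K] [Finite K], Odd (Nat.card K) → Group.IsSolvable K) [Finite G]
    (h : Chart Q z eta pi) (hp : p.Prime) (h5 : 5 ≤ p) {x : Subgroup.centralizer ({z} : Set G)} (hx : x ^ p = 1)
    (hiso : ∀ d : G, d * (x : G) = x * d → (d * z * d⁻¹) * z = z * (d * z * d⁻¹) → d * z * d⁻¹ = z)
    (hA : Near p (XX (pi x))) : Comps p ↥(centralizer ({(x : G)} : Set G)) := by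
  have ho : Odd p := hp.odd_of_ne_two (by omega)
  exact comps_of_isolated FT hp h5 (z := zD x) (orderOf_zD h x)
    (fun d hd => Subtype.ext (hiso d (mem_centralizer_singleton_iff.1 d.2) (congrArg Subtype.val hd)))
    hA (toXX pi x) (toXX_surj h hp ho hx) (toXX_ker h)

/-- If `z` is isolated in `C(x)` then `C(x) / ⟨x⟩` is not simple (non-abelian). -/
theorem not_simple [Finite G] (h : Chart Q z eta pi) (ho : Odd p) {x : Subgroup.centralizer ({z} : Set G)}
    (hx : orderOf x = p)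
    (hiso : ∀ d : G, d * (x : G) = x * d → (d * z * d⁻¹) * z = z * (d * z * d⁻¹) → d * z * d⁻¹ = z)
    (hS : IsSimpleGroup (XX (x : G))) (hc : Subgroup.center (XX (x : G)) ≠ ⊤) : False := by
  have hx3 : x ^ p = 1 := by rw [← hx, pow_orderOf_eq_one]
  have hzo : orderOf (zD x) = 2 := orderOf_zD h x
  obtain ⟨N, hN, hNo, hsup⟩ := exists_odd h hiso
  have hznot : QuotientGroup.mk' (Zx (x : G)) (zD x) ≠ 1 := by
    intro h1
    have h2 : zD x ∈ Zx (x : G) := (QuotientGroup.eq_one_iff _).1 h1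
    obtain ⟨i, hi⟩ := Subgroup.mem_zpowers_iff.1 h2
    exact h.large.z_ne (eq_one_of_mem h ho hx3 h.large.z_mem ⟨i, congrArg Subtype.val hi⟩)
  have hNn : (N.map (QuotientGroup.mk' (Zx (x : G)))).Normal :=
    Subgroup.Normal.map hN _ (QuotientGroup.mk'_surjective _)
  have hcb : Subgroup.center (XX (x : G)) = ⊥ :=
    ((inferInstance : (Subgroup.center (XX (x : G))).Normal).eq_bot_or_eq_top).resolve_right hc
  rcases hNn.eq_bot_or_eq_top with h1 | h1
  · -- `z` is central
    apply hznot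
    have h2 : QuotientGroup.mk' (Zx (x : G)) (zD x) ∈ Subgroup.center (XX (x : G)) := by
      rw [Subgroup.mem_center_iff]
      intro y
      obtain ⟨g, rfl⟩ := QuotientGroup.mk'_surjective (Zx (x : G)) y
      have hg : g ∈ N ⊔ centralizer ({zD x} : Set ↥(centralizer ({(x : G)} : Set G))) := by rw [hsup]; trivial
      obtain ⟨n, hn, c, hc, rfl⟩ := Subgroup.mem_sup_of_normal_left.1 hg
      have h3 : QuotientGroup.mk' (Zx (x : G)) n = 1 := by
        have := Subgroup.mem_map_of_mem (QuotientGroup.mk' (Zx (x : G))) hn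
        rw [h1] at this
        exact this
      rw [map_mul, h3, one_mul, ← map_mul, ← map_mul, mem_centralizer_singleton_iff.1 hc]
    rw [hcb] at h2
    exact h2
  · -- `z ∈ N ⟨x⟩` has odd order
    have h2 : (2 : ℕ) ∣ Nat.card (XX (x : G)) := by
      have h3 : orderOf (QuotientGroup.mk' (Zx (x : G)) (zD x)) ∣ 2 := by
        rw [← hzo]; exact orderOf_map_dvd _ _
      rcases (Nat.dvd_prime Nat.prime_two).1 h3 with h4 | h4
      · exact absurd (orderOf_eq_one_iff.1 h4) hznot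
      · rw [← h4]; exact orderOf_dvd_natCard _
    have h3 : Nat.card (XX (x : G)) ∣ Nat.card ↥N := by
      have := Subgroup.card_map_dvd N (QuotientGroup.mk' (Zx (x : G)))
      rwa [h1, Subgroup.card_top] at this
    exact (Nat.not_even_iff_odd.2 hNo) ((even_iff_two_dvd).2 (h2.trans h3))

/-- A pair `x₀`, `u` of `C(z)`: `x₀` of order `p` of fixed rank 0, `u ≠ z` a conjugate of `z` commuting with `x₀` and `z`. -/
def HasPair (p : ℕ) {G : Type u} [Group G] (z : G) (pi : Subgroup.centralizer ({z} : Set G) →* Co1) : Prop :=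
  ∃ (x₀ : Subgroup.centralizer ({z} : Set G)) (u g : G), orderOf x₀ = p ∧ fr (pi x₀) = 1 ∧ u * z = z * u ∧
    (x₀ : G) * u = u * x₀ ∧ u ≠ z ∧ g * z * g⁻¹ = u

theorem orderOf_conj'' {H : Type*} [Group H] (g x : H) : orderOf (g⁻¹ * x * g) = orderOf x := by
  have e : g⁻¹ * x * g = (MulAut.conj g⁻¹) x := by
    rw [MulAut.conj_apply, inv_inv]
  rw [e]
  exact MulEquiv.orderOf_eq (MulAut.conj g⁻¹) x

/-- **The elements of fixed rank `n` are conjugate to powers of `x₀`.** -/
theorem conj_pair [Finite G] (h : Chart Q z eta pi) (hp : p.Prime) (ho : Odd p) (ht : TrNe p z pi) {n : ℕ}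
    {R : ℕ → Prop} (hC : ∀ s : Co1, orderOf s = p → fr s = 1 ∨ fr s = n ∨ R (fr s))
    (hcl : WClassOf p n)
    (hR : ∀ x : Subgroup.centralizer ({z} : Set G), orderOf x = p → R (fr (pi x)) →
      IsSimpleGroup (XX (x : G)) ∧ Subgroup.center (XX (x : G)) ≠ ⊤)
    {x₀ : Subgroup.centralizer ({z} : Set G)} (hx₀ : orderOf x₀ = p) (hfr₀ : fr (pi x₀) = 1) {u g : G}
    (huz : u * z = z * u) (hux : (x₀ : G) * u = u * x₀) (hne : u ≠ z) (hg : g * z * g⁻¹ = u)
    {x : Subgroup.centralizer ({z} : Set G)} (hx : orderOf x = p) (hfr : fr (pi x) = n) :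
    ∃ (k : G) (i : ℕ), k * (x : G) * k⁻¹ = (x₀ : G) ^ i := by
  have hz2 : z * z = 1 := h.large.z_sq
  have hx₀z : (x₀ : G) * z = z * x₀ := mem_centralizer_singleton_iff.1 x₀.2
  have hx'z : g⁻¹ * (x₀ : G) * g ∈ centralizer ({z} : Set G) := by
    rw [mem_centralizer_singleton_iff]
    calc g⁻¹ * (x₀ : G) * g * z = g⁻¹ * (x₀ * (g * z * g⁻¹)) * g := by group
      _ = g⁻¹ * ((g * z * g⁻¹) * x₀) * g := by rw [hg, hux]
      _ = z * (g⁻¹ * x₀ * g) := by group
  let x' : Subgroup.centralizer ({z} : Set G) := ⟨g⁻¹ * x₀ * g, hx'z⟩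
  have hgx' : g * (x' : G) * g⁻¹ = x₀ := by
    show g * (g⁻¹ * (x₀ : G) * g) * g⁻¹ = x₀
    group
  have hx' : orderOf x' = p := by
    rw [← Subgroup.orderOf_coe]
    show orderOf (g⁻¹ * (x₀ : G) * g) = p
    rw [orderOf_conj'', Subgroup.orderOf_coe, hx₀]
  have hu2 : u * u = 1 := by
    rw [← hg]
    calc g * z * g⁻¹ * (g * z * g⁻¹) = g * (z * z) * g⁻¹ := by group
      _ = 1 := by rw [hz2]; group
  have hu1 : u ≠ 1 := by
    intro h1
    apply h.large.z_ne
    calc z = g⁻¹ * (g * z * g⁻¹) * g := by group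
      _ = 1 := by rw [hg, h1]; group
  rcases hC (pi x') (orderOf_pi h hp ho hx') with h1 | h1 | h1
  · exfalso
    refine ht x₀ x' u g hx₀ hx' hfr₀ h1 huz hu2 hu1 hne hux ?_
    calc g * ((x' : G) * z) * g⁻¹ = (g * x' * g⁻¹) * (g * z * g⁻¹) := by group
      _ = x₀ * u := by rw [hgx', hg]
  · obtain ⟨c, i, hc⟩ := hcl (pi x) (pi x') (orderOf_pi h hp ho hx) (orderOf_pi h hp ho hx') hfr h1
    have hc' : c * pi x * c⁻¹ = pi (x' ^ i) := by rw [hc, map_pow]
    obtain ⟨k, hk⟩ := exists_conj_of_conj h hp ho (y := x' ^ i) (by rw [← hx, pow_orderOf_eq_one])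
      (by rw [← pow_mul, mul_comm, pow_mul, ← hx', pow_orderOf_eq_one, one_pow]) hc'
    refine ⟨g * k, i, ?_⟩
    have h2 : (k : G) * x * (k : G)⁻¹ = (x' : G) ^ i := congrArg Subtype.val hk
    calc g * k * x * (g * k)⁻¹ = g * (k * x * (k : G)⁻¹) * g⁻¹ := by group
      _ = (g * x' * g⁻¹) ^ i := by rw [h2, conj_pow]
      _ = (x₀ : G) ^ i := by rw [hgx']
  · exfalso
    obtain ⟨h2, h3⟩ := hR x' hx' h1
    obtain ⟨-, ⟨e⟩⟩ := exists_XX_equiv hgx'
    refine not_simple h ho hx₀ (fun d hd hc => isolated h ht hx₀ hfr₀ d hd hc)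
      ((MulEquiv.isSimpleGroup_congr e).1 h2) ?_
    intro h4
    apply h3
    rw [eq_top_iff]
    intro a _
    rw [Subgroup.mem_center_iff]
    intro b
    apply e.injective
    rw [map_mul, map_mul]
    have h5 : e a ∈ Subgroup.center (XX (x₀ : G)) := by rw [h4]; trivial
    exact Subgroup.mem_center_iff.1 h5 (e b)

/-- centralizers of `x` and of a nontrivial power of `x` -/
theorem centralizer_pow {H : Type*} [Group H] (hp : p.Prime) {x : H} (hx : orderOf x = p) {i : ℕ}
    (hi : orderOf (x ^ i) = p) : centralizer ({x ^ i} : Set H) = centralizer ({x} : Set H) := by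
  have h1 : i.Coprime p := by
    rw [Nat.coprime_comm, hp.coprime_iff_not_dvd]
    intro hd
    have h2 : x ^ i = 1 := by
      obtain ⟨m, rfl⟩ := hd
      rw [pow_mul, ← hx, pow_orderOf_eq_one, one_pow]
    rw [h2, orderOf_one] at hi
    exact hp.one_lt.ne hi
  obtain ⟨m, hm⟩ := exists_pow_eq_self_of_coprime (x := x) (n := i) (by rw [hx]; exact h1)
  ext g
  rw [mem_centralizer_singleton_iff, mem_centralizer_singleton_iff]
  constructor
  · intro h2
    have h3 : Commute g (x ^ i) := h2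
    have h4 := h3.pow_right m
    rw [hm] at h4
    exact h4
  · intro h2
    have h3 : Commute g x := h2
    exact h3.pow_right i

/-- conjugate subgroups of order `p` have isomorphic centralizers -/
theorem exists_cent_equiv {H : Type*} [Group H] (hp : p.Prime) {x y k : H} {i : ℕ} (hx : orderOf x = p)
    (hy : orderOf y = p) (hk : k * x * k⁻¹ = y ^ i) :
    Nonempty (↥(centralizer ({y} : Set H)) ≃* ↥(centralizer ({x} : Set H))) := by
  have h1 : orderOf (y ^ i) = p := by
    rw [← hk, ← hx]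
    exact MulEquiv.orderOf_eq (MulAut.conj k) x
  obtain ⟨⟨e⟩, -⟩ := exists_XX_equiv hk
  exact ⟨(MulEquiv.subgroupCongr (centralizer_pow hp hy h1).symm).trans e.symm⟩

end Cfsg.Agent.MFive
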