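import Cfsg.Agent.MFive.JMat
import Cfsg.Agent.KFacts.Co1.RIrr
set_option linter.all false

/-!
# Relations between the elements of `JMat` (helper49)

Letters: `0` the element `s` of order five, `1` the sign change `ε` on the octad, `2..6` the involutions `v₀ .. v₄`,
`7, 8` the elements `I`, `J`, `9, 10` the elements `f₃`, `f₅`, `11` the element `g`, `12` the sign change `ω` on the
complement of the octad, `13` is `-1`.
-/

set_option autoImplicit false
set_option maxRecDepth 100000

namespace Cfsg.Agent.MFive.JData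

open Cfsg Cfsg.Agent.SporadicA Cfsg.Agent.SporadicA.Co0Mono Cfsg.Agent.SporadicStructure.Co0Matrix
open Cfsg.Agent.CoOneType.CoEval Cfsg.Agent.CoOneType.SignFacts
open Cfsg.Agent.SporadicStructure.Co0Base (e8 e8_coe)
open Cfsg.Agent.KFacts.Co1.RHat Cfsg.Agent.SporadicA.Co1Simple
open Cfsg.Agent.MFive.JMat

/-- rows of a sign change -/
def sgR (m : ℕ) : List (List ℤ) := (List.range 24).map fun i => (List.range 24).map fun j =>
  if i = j then (if m.testBit i then -8 else 8) else 0

/-- the complement of the octad -/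
def com : ℕ := 7430140

/-- all points -/
def all : ℕ := 16777215

theorem okW : Ok (sgR com) (sgR com) := Ok.of_bool (by decide +kernel)

theorem okN : Ok (sgR all) (sgR all) := Ok.of_bool (by decide +kernel)

/-- the matrices -/
def M : ℕ → List (List ℤ)
  | 0 => Oct.rA
  | 1 => Oct.rD
  | 2 => rV0
  | 3 => rV1
  | 4 => rV2
  | 5 => rV3
  | 6 => rV4
  | 7 => rI
  | 8 => rJ
  | 9 => rF3
  | 10 => rF5
  | 11 => rG
  | 12 => sgR com
  | _ => sgR all

/-- the transposed matrices -/
def C : ℕ → List (List ℤ)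
  | 0 => Oct.cA
  | 1 => Oct.rD
  | 2 => cV0
  | 3 => cV1
  | 4 => cV2
  | 5 => cV3
  | 6 => cV4
  | 7 => cI
  | 8 => cJ
  | 9 => cF3
  | 10 => cF5
  | 11 => cG
  | 12 => sgR com
  | _ => sgR all

theorem ok (i : ℕ) : Ok (M i) (C i) := by
  match i with
  | 0 => exact Oct.okA
  | 1 => exact Oct.okD
  | 2 => exact okV0
  | 3 => exact okV1
  | 4 => exact okV2
  | 5 => exact okV3
  | 6 => exact okV4
  | 7 => exact okI
  | 8 => exact okJ
  | 9 => exact okF3
  | 10 => exact okF5
  | 11 => exact okG
  | 12 => exact okW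
  | _ + 13 => exact okN

/-- the elements -/
def e (i : ℕ) : Co0 := Cfsg.Agent.SporadicStructure.Co0Matrix.mk (ok i)

theorem rep (i : ℕ) : Rep (e i) (M i) := rep_mk (ok i)

theorem e_zero : e 0 = Oct.e 0 := by
  apply eq_of_fix
  apply Subtype.ext
  rw [(rep 0).apply (v := beta) (l := betaL) (by decide) rfl, (Oct.rep 0).apply (v := beta) (l := betaL) (by decide) rfl]
  rfl

theorem e_one : e 1 = signCo0 Oct.cw := by
  rw [← Oct.e_one]
  apply eq_of_fix
  apply Subtype.ext
  rw [(rep 1).apply (v := beta) (l := betaL) (by decide) rfl, (Oct.rep 1).apply (v := beta) (l := betaL) (by decide) rfl]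
  rfl

theorem com_apply : ∀ p : GolayPt, vec (ap (sgR com) betaL) p =
    sgn (GolayBase.word Oct.oct p + 1) * vec betaL p := by
  have h1 : ∀ p : GolayPt, vec (ap (sgR com) betaL) p = sgn (GolayBase.word com p) * vec betaL p := by
    decide +kernel
  have h2 : ∀ p : GolayPt, GolayBase.word com p = GolayBase.word Oct.oct p + 1 := by decide +kernel
  intro p
  rw [h1, h2]

theorem all_apply : ∀ p : GolayPt, vec (ap (sgR all) betaL) p = sgn 1 * vec betaL p := by
  decide +kernel

theorem e_com : e 12 = signCo0 (Oct.cw + allOne) := by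
  apply eq_of_fix
  apply Subtype.ext
  rw [(rep 12).apply (v := beta) (l := betaL) (by decide) rfl]
  funext p
  exact com_apply p

theorem e_all : e 13 = signCo0 allOne := by
  apply eq_of_fix
  apply Subtype.ext
  rw [(rep 13).apply (v := beta) (l := betaL) (by decide) rfl]
  funext p
  exact all_apply p

/-- equality of words in `Co0` (not only modulo the sign) -/
def sB (w w' : List ℕ) : Bool := eqL (fold M w betaL) (fold M w' betaL)

theorem eq_of_sB {w w' : List ℕ} (h : sB w w' = true) : (w.map e).prod = (w'.map e).prod := by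
  have h1 := (fold_spec rep w (l := betaL) (v := beta) (by decide) rfl).2
  have h2 := (fold_spec rep w' (l := betaL) (v := beta) (by decide) rfl).2
  rw [eqL_eq h, ← h2] at h1
  exact eq_of_fix (Subtype.ext h1)

theorem k_s : (sB [2, 0] [0, 2] && sB [4, 0] [0, 4] && sB [5, 0] [0, 5] && sB [6, 0] [0, 6] && sB [7, 0] [0, 7] &&
    sB [8, 0] [0, 8] && sB [9, 0] [0, 9] && sB [10, 0] [0, 10] && sB [11, 0] [0, 11]) = true := by decide +kernel

theorem k_eps : (sB [7, 1] [1, 7] && sB [8, 1] [1, 8] && sB [9, 1] [1, 9] && sB [10, 1] [1, 10]) = true := by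
  decide +kernel

theorem k_v : (sB [2, 4] [12, 4, 2] && sB [2, 5] [12, 5, 2] && sB [2, 6] [12, 6, 2] && sB [4, 5] [12, 5, 4] &&
    sB [4, 6] [12, 6, 4] && sB [5, 6] [12, 6, 5]) = true := by decide +kernel

theorem k_ij : (sB [7, 7] [13] && sB [8, 8] [13] && sB [8, 7] [13, 7, 8]) = true := by decide +kernel

theorem k_f : (sB [9, 9, 9] [] && sB [10, 10, 10, 10, 10] []) = true := by decide +kernel

theorem k_act : (sB [7, 2] [12, 4, 7] && sB [8, 2] [12, 6, 8] && sB [9, 2] [5, 9] && sB [10, 2] [12, 6, 10]) = true := by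
  decide +kernel

theorem k_g : sB [11, 1] [2, 11] = true := by decide +kernel

/-- `8 e_i` as a list -/
def un (i : ℕ) : List ℤ := (List.range 24).map fun j => if i = j then 8 else 0

theorem un_spec : ∀ p : GolayPt, ((e8 p : leechLattice) : GolayPt → ℤ) = vec (un (GolayBase.idx p)) := by
  intro p
  funext q
  rw [e8_coe]
  have h : ∀ p q : GolayPt, (Pi.single p 8 : GolayPt → ℤ) q = vec (un (GolayBase.idx p)) q := by decide +kernel
  exact h p q

/-- whether the matrix fixes the vectors `8 e_i` of the octad -/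
def fixB (R : List (List ℤ)) : Bool := (List.range 24).all fun i => !(Oct.oct.testBit i) || eqL (ap R (un i)) (un i)

theorem idx_lt (p : GolayPt) : GolayBase.idx p < 24 := by
  revert p; decide +kernel

theorem mem_of_fixB {i : ℕ} (h : fixB (M i) = true) : e i ∈ Rh Oct.cw := by
  rw [mem_Rh_iff]
  intro p hp
  have h1 := List.all_eq_true.1 h _ (List.mem_range.2 (idx_lt p))
  have h2 : Oct.oct.testBit (GolayBase.idx p) = true := by
    have h3 := (mem_sup Oct.cw p).1 hp
    have h4 : GolayBase.word Oct.oct p = 1 := h3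
    rw [GolayBase.word_apply] at h4
    by_contra h5
    rw [if_neg h5] at h4
    exact absurd h4 (by decide)
  rw [h2, Bool.not_true, Bool.false_or] at h1
  apply Subtype.ext
  have h3 := (rep i).apply (v := e8 p) (l := un (GolayBase.idx p)) (by rw [un, List.length_map, List.length_range])
    (un_spec p)
  show ((e i).1 (e8 p) : GolayPt → ℤ) = _
  rw [h3, eqL_eq h1, un_spec]

theorem k_fix : (fixB (M 2) && fixB (M 4) && fixB (M 5) && fixB (M 6)) = true := by decide +kernel

end Cfsg.Agent.MFive.JData
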