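import Cfsg.Agent.MFive.FixN
import Cfsg.Agent.LThreeMB.QSpan
import Cfsg.Agent.Prune
set_option linter.all false
prune_inst 0x7f00000000000000000000000000000000000000000000000000000000000000000000000000000000000000000000000000000000000000000000000000000000000000000000000000000000000000003fffffffffffffffffffffffffffbeffbdffffffff
open scoped Cfsg.Agent.FastGrp

/-!
A fast check for `MFive.FixN.spanB`.
-/

set_option autoImplicit false

namespace Cfsg.Agent.Co0Q.Sp

open Cfsg Cfsg.Agent.SporadicA Cfsg.Agent.SporadicStructure.Co0Matrix Cfsg.Agent.CoOneType.CoEval Finset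
open Cfsg.Agent.LThreeMB.Fix Cfsg.Agent.Co0Q

theorem spanN_of {g : Co0} {n : ℕ} {R : List (List ℤ)} (hR : Rep g R) {vw : List (List ℤ × List ℤ)}
    (h : (Nat.ble 1 n && Nat.ble n 60 && spk (MFive.FixN.trn R n (cf 48)) vw) = true) : MFive.FixN.spanB n R vw = true := by
  obtain ⟨h1, h3⟩ := Bool.and_eq_true_iff.1 h
  obtain ⟨h1, h2⟩ := Bool.and_eq_true_iff.1 h1
  refine core (MFive.FixN.trH g n) (MFive.FixN.trn R n) (fun l v hl hv => ⟨?_, (MFive.FixN.trn_spec hR n hl hv).2⟩) (fun v hv p => ?_) h3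
  · obtain ⟨m, rfl⟩ := Nat.exists_eq_add_of_le' (Nat.le_of_ble_eq_true h1)
    have := (MFive.FixN.trn_spec hR (m + 1) hl hv).1
    rw [MFive.FixN.trn_succ, length_addL, hl] at this ⊢
    exact le_antisymm this (le_max_left _ _)
  · have g3 : (n : ℤ) ≤ 60 := Int.ofNat_le.2 (Nat.le_of_ble_eq_true h2)
    rw [MFive.FixN.trH_apply, AddSubgroup.val_finsetSum, Finset.sum_apply]
    refine (abs_sum_le_sum_abs _ _).trans ((sum_le_card_nsmul _ _ 10 fun i _ => abs_ten _ hv p).trans ?_)
    rw [card_range, nsmul_eq_mul]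
    linarith only [g3]

/-- the same, without a given element -/
theorem spanN_ok {n : ℕ} {R : List (List ℤ)} {vw : List (List ℤ × List ℤ)}
    (h : (okq R (tpo 24 R) && (Nat.ble 1 n && Nat.ble n 60 && spk (MFive.FixN.trn R n (cf 48)) vw)) = true) :
    MFive.FixN.spanB n R vw = true :=
  spanN_of (rep_mk (ok_of (Bool.and_eq_true_iff.1 h).1)) (Bool.and_eq_true_iff.1 h).2

end Cfsg.Agent.Co0Q.Sp
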